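import Mathlib
import Cfsg.Agent.Lib.Comput.Check3
import Cfsg.Agent.Lib.LieModel.U43.P.Data

/-! generated by tools/cgt -/

set_option autoImplicit false
set_option maxRecDepth 100000
set_option Elab.async false

namespace CfsgLib.LieModel.U43.P

open CfsgLib.Comput

def R4_0 : RepC := ⟨23, 1, [],
  []⟩
def R4_1 : RepC := ⟨24, 1, [],
  []⟩
def S4_0 : GenC := ⟨24, [],
  [(0, 0, 0, 2, 0), (0, 1, 0, 0, 0), (0, 2, 0, 1, 0)], 0⟩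
def L4 : Level := ⟨0x0, 0xc00000, [], 1, 4, 0, 3, [R4_0, R4_1], [S4_0]⟩
def X4 : Ext := [(22, 24, 0)]

def R3_0 : RepC := ⟨15, 1, [(24, 24)],
  [(77, 2, [1])]⟩
def R3_1 : RepC := ⟨16, 1, [(24, 24)],
  [(77, 2, [1])]⟩
def R3_2 : RepC := ⟨17, 1, [(23, 23)],
  [(4, 2, [1])]⟩
def R3_3 : RepC := ⟨18, 1, [(23, 23)],
  [(77, 2, [1])]⟩
def R3_4 : RepC := ⟨19, 1, [(24, 24)],
  [(4, 2, [1])]⟩
def R3_5 : RepC := ⟨20, 1, [(24, 24)],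
  [(4, 2, [1])]⟩
def R3_6 : RepC := ⟨21, 1, [(23, 23)],
  [(190, 2, [1])]⟩
def R3_7 : RepC := ⟨22, 1, [(23, 23)],
  [(4, 2, [1])]⟩
def R3_8 : RepC := ⟨0x1510, 1, [(24, 24)],
  [(190, 2, [1])]⟩
def R3_9 : RepC := ⟨0x130f, 1, [(23, 23)],
  [(4, 2, [1])]⟩
def R3_10 : RepC := ⟨0xf14, 1, [(23, 23)],
  [(190, 2, [1])]⟩
def R3_11 : RepC := ⟨0x1110, 1, [(24, 24)],
  [(190, 2, [1])]⟩
def R3_12 : RepC := ⟨0x1310, 1, [(23, 23)],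
  [(4, 2, [1])]⟩
def R3_13 : RepC := ⟨0x1410, 1, [(24, 24)],
  [(4, 2, [1])]⟩
def R3_14 : RepC := ⟨0x1311, 1, [(23, 23)],
  [(190, 2, [1])]⟩
def R3_15 : RepC := ⟨0x1114, 1, [(23, 23)],
  [(190, 2, [1])]⟩
def R3_16 : RepC := ⟨0x1312, 1, [(23, 23)],
  [(77, 2, [1])]⟩
def R3_17 : RepC := ⟨0x1412, 1, [(23, 23)],
  [(4, 2, [1])]⟩
def R3_18 : RepC := ⟨0x1513, 1, [(24, 24)],
  [(77, 2, [1])]⟩
def R3_19 : RepC := ⟨0x1613, 1, [(23, 23)],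
  [(4, 2, [1])]⟩
def R3_20 : RepC := ⟨0x1514, 1, [(24, 24)],
  [(4, 2, [1])]⟩
def R3_21 : RepC := ⟨0x1614, 1, [(23, 23)],
  [(4, 2, [1])]⟩
def R3_22 : RepC := ⟨0x151310, 1, [(24, 24)],
  [(4, 2, [1])]⟩
def R3_23 : RepC := ⟨0x151410, 1, [(24, 24)],
  [(190, 2, [1])]⟩
def R3_24 : RepC := ⟨0x131110, 1, [(24, 24)],
  [(190, 2, [1])]⟩
def R3_25 : RepC := ⟨0x111410, 1, [(24, 24)],
  [(77, 2, [1])]⟩
def S3_0 : GenC := ⟨16, [(23, 23)],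
  [(0, 0, 0, 2, 0), (0, 1, 0, 0, 0), (0, 2, 0, 1, 0), (0, 3, 0, 12, 0), (0, 4, 0, 7, 23), (0, 5, 0, 13, 0), (0, 6, 0, 14, 0), (0, 7, 0, 9, 0), (0, 8, 0, 3, 23), (0, 9, 0, 4, 24), (0, 10, 0, 5, 0), (0, 11, 0, 6, 0), (0, 12, 0, 8, 24), (0, 13, 0, 10, 0), (0, 14, 0, 11, 0), (0, 15, 0, 25, 0), (0, 16, 0, 26, 0), (0, 17, 0, 19, 23), (0, 18, 0, 21, 23), (0, 19, 0, 23, 0), (0, 20, 0, 15, 23), (0, 21, 0, 24, 0), (0, 22, 0, 16, 23), (0, 23, 0, 17, 24), (0, 24, 0, 18, 24), (0, 25, 0, 20, 24), (0, 26, 0, 22, 24)], 0⟩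
def S3_1 : GenC := ⟨18, [(23, 23)],
  [(0, 0, 0, 4, 0), (0, 1, 0, 9, 23), (0, 2, 0, 7, 23), (0, 3, 0, 0, 0), (0, 4, 0, 3, 0), (0, 5, 0, 17, 0), (0, 6, 0, 18, 0), (0, 7, 0, 12, 24), (0, 8, 0, 1, 23), (0, 9, 0, 8, 23), (0, 10, 0, 23, 23), (0, 11, 0, 24, 23), (0, 12, 0, 2, 0), (0, 13, 0, 19, 23), (0, 14, 0, 21, 23), (0, 15, 0, 5, 0), (0, 16, 0, 6, 0), (0, 17, 0, 15, 0), (0, 18, 0, 16, 0), (0, 19, 0, 25, 24), (0, 20, 0, 10, 23), (0, 21, 0, 26, 24), (0, 22, 0, 11, 23), (0, 23, 0, 20, 23), (0, 24, 0, 22, 23), (0, 25, 0, 13, 0), (0, 26, 0, 14, 0)], 0⟩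
def S3_2 : GenC := ⟨20, [(24, 24)],
  [(0, 0, 0, 6, 0), (0, 1, 0, 11, 0), (0, 2, 0, 14, 0), (0, 3, 0, 16, 0), (0, 4, 0, 18, 0), (0, 5, 0, 0, 0), (0, 6, 0, 5, 0), (0, 7, 0, 21, 0), (0, 8, 0, 22, 0), (0, 9, 0, 24, 0), (0, 10, 0, 1, 0), (0, 11, 0, 10, 0), (0, 12, 0, 26, 0), (0, 13, 0, 2, 0), (0, 14, 0, 13, 0), (0, 15, 0, 3, 0), (0, 16, 0, 15, 0), (0, 17, 0, 4, 0), (0, 18, 0, 17, 0), (0, 19, 0, 7, 0), (0, 20, 0, 8, 0), (0, 21, 0, 19, 0), (0, 22, 0, 20, 0), (0, 23, 0, 9, 0), (0, 24, 0, 23, 0), (0, 25, 0, 12, 0), (0, 26, 0, 25, 0)], 0⟩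
def L3 : Level := ⟨0xc00000, 0xffc000, [24], 3, 1, 0, 27, [R3_0, R3_1, R3_2, R3_3, R3_4, R3_5, R3_6, R3_7, R3_8, R3_9, R3_10, R3_11, R3_12, R3_13, R3_14, R3_15, R3_16, R3_17, R3_18, R3_19, R3_20, R3_21, R3_22, R3_23, R3_24, R3_25], [S3_0, S3_1, S3_2]⟩
def X3 : Ext := [(14, 16, 0), (16, 18, 0), (18, 20, 0), (20, 0, 0x121018), (21, 21, 0)]

def R2_0 : RepC := ⟨11, 1, [(23, 24), (0x1018, 0x1617), (0x1510, 0x151310), (0x1317, 0x1018)],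
  [(156, 2, [1, 2, 3, 4]), (190, 2, [1])]⟩
def R2_1 : RepC := ⟨12, 1, [(23, 24), (0x1217, 0xf1417), (16, 19), (0x1613, 0x1514)],
  [(3, 2, [1, 2, 3, 4]), (77, 2, [1])]⟩
def R2_2 : RepC := ⟨0xc0c, 1, [(24, 24), (0x1312, 0x151017), (0x1317, 0x1617), (0x1614, 0x1513)],
  [(129, 2, [1, 2, 3, 4]), (4, 2, [1])]⟩
def S2_0 : GenC := ⟨12, [(0x1114, 0x141017)],
  [(0, 0, 0, 2, 0), (0, 1, 0, 0, 0), (0, 2, 0, 3, 0), (0, 3, 0, 1, 0)], 0⟩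
def L2 : Level := ⟨0xffc000, 0xffff00, [16, 18, 20, 24], 81, 125, 0, 4, [R2_0, R2_1, R2_2], [S2_0]⟩
def X2 : Ext := [(10, 12, 0), (8, 0, 0x130f17), (9, 9, 0), (12, 0, 15), (13, 13, 0)]

def R1_0 : RepC := ⟨0x50906, 4, [(23, 0x1510), (17, 21), (0x1614, 0x1318), (19, 0x1118)],
  [(144, 2, [1, 2, 3, 4]), (190, 2, [1])]⟩
def R1_1 : RepC := ⟨0x61306, 4, [(23, 0x141217), (0x1517, 0x1417), (15, 0x161318), (19, 0xf1417)],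
  [(2, 2, [1, 2, 3, 4]), (190, 2, [1])]⟩
def R1_2 : RepC := ⟨5, 27, [(0xc0c1412, 0xc0c111410), (0xb1310, 0xc161418)],
  [(153, 3, [1, 2])]⟩
def S1_0 : GenC := ⟨6, [(0xb1310, 0xc161418)],
  [(0, 0, 21, 3, 0xc0c111017), (0, 3, 0, 0, 0), (21, 3, 18, 3, 0xc1114), (18, 3, 11, 3, 0xc0c131117), (17, 3, 0x1118, 3, 0xc141217), (11, 3, 0, 1, 0xc131118), (0, 1, 0xa10, 3, 0xc0c1312), (0x1017, 3, 12, 2, 0xc111017), (22, 3, 9, 3, 0xb161317), (0, 2, 20, 3, 0x1018), (23, 3, 0x1318, 3, 0xb1412)], 3⟩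
def L1 : Level := ⟨0xffff00, 0xfffff0, [12, 16, 18, 20, 24], 324, 124, 0, 36, [R1_0, R1_1, R1_2], [S1_0]⟩
def X1 : Ext := [(4, 6, 0), (6, 0, 0x60c15131017), (7, 7, 0)]

def R0_0 : RepC := ⟨0x50f03, 36, [(0x1018, 0x151310), (0xc10, 0x713060c0c15131017), (24, 0x161317)],
  [(86, 6, [1, 2, 3]), (142, 2, [1])]⟩
def R0_1 : RepC := ⟨1, 243, [(0x918060c0c161417, 0x1006141217), (0xc0c1118, 0x1110060b14)],
  [(68, 6, [1, 2])]⟩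
def S0_0 : GenC := ⟨4, [(0xf060b0f, 21), (0x50c0c14, 0x617060b1613), (0x50b14, 0x712060c130f18)],
  [(0, 0, 0x50906, 1, 0x1017060c0c151417), (0, 2, 0x505, 2, 0x717060c0c13111017), (0x1006, 1, 0, 0, 0), (0, 1, 0xb0812, 2, 0x71706151410), (15, 2, 0x170814, 2, 0x9060b13111017), (0x709, 2, 0xc06, 1, 0xc0c11141017), (0xc06, 1, 0x70f06, 1, 0x712060c0c11141018), (0xf05, 1, 0, 1, 0x50906161318)], 4⟩
def L0 : Level := ⟨0xfffff0, 0xffffff, [6, 12, 16, 18, 20, 24], 11664, 0, 0, 280, [R0_0, R0_1], [S0_0]⟩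
def X0 : Ext := [(2, 4, 0), (0, 0, 0x1607040418051618), (1, 1, 0)]

def top : List ℕ := [1, 3]
def gs : List ℕ := [4, 6, 12, 16, 18, 20, 24]
def XD : Ext := [(1, 1, 0), (3, 3, 0), (4, 0, 0x20203020202040103030203), (5, 5, 0), (6, 0, 0x404020301030203010104), (7, 7, 0), (8, 0, 0x50507060806070505), (9, 9, 0), (10, 0, 0x6060806070606080505), (11, 11, 0), (12, 0, 0x606070607060608060705050505), (13, 13, 0), (14, 0, 0xe0e), (15, 15, 0), (16, 0, 0xc090d0b), (17, 17, 0), (18, 0, 0xc0c0c0e0c), (19, 19, 0), (20, 0, 0xc0d0b), (21, 21, 0), (22, 0, 0x121310131613), (23, 23, 0)]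
def MX : Level.MaxC := [[(0x50906, [0x1017060c0c151417])], [(0x5091105, [10, 0x613060c13111018])]]
def NC : NclD := ⟨4, 7, [(0, [0x11080808, 0x1101060c1417]), (2, [0x617, 0x101030712060c14])]⟩

/-- all the equations of the certificate -/
structure Eqs {G : Type*} [Group G] (g : ℕ → G) : Prop where
  l4 : AllHold g L4.eqns
  x4 : AllHold g X4.eqns
  l3 : AllHold g L3.eqns
  x3 : AllHold g X3.eqns
  l2 : AllHold g L2.eqns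
  x2 : AllHold g X2.eqns
  l1 : AllHold g L1.eqns
  x1 : AllHold g X1.eqns
  l0 : AllHold g L0.eqns
  x0 : AllHold g X0.eqns
  xd : AllHold g XD.eqns
  mx : AllHold g (L0.maxEqns MX)
  nc : AllHold g NC.eqns

end CfsgLib.LieModel.U43.P
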